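import Cfsg.Agent.H54.PQ.Defs
import Cfsg.Agent.H672.Over
import Cfsg.Agent.S4601

/-!
# S4981, the reduction (A) => (B): setup, `star`, Frattini arguments (helper20)

`Facts p q` collects the facts of the other rows as hypotheses.
-/

set_option autoImplicit false
set_option linter.style.longLine false
set_option linter.style.haveILetI false
set_option linter.unusedSectionVars false

namespace Cfsg.Agent.H20.PQ

open Subgroup Cfsg Cfsg.Agent.H54.PQ Cfsg.Agent.Characters.Core Cfsg.Agent.H672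
open scoped ComplexConjugate

universe u

/-- the facts of the other rows -/
structure Facts (p q : ℕ) : Prop where
  uniq : ∀ (G : Type u) [Group G] [Finite G], IsPSolvable q G → ∀ (P : Sylow p G) (Q : Sylow q G),
    normalizer ((P : Subgroup G) : Set G) ≤ normalizer ((Q : Subgroup G) : Set G) → ∀ R : Subgroup G,
    (P : Subgroup G) ≤ R → ∀ Q' : Sylow q G, (Q' : Subgroup G) ≤ R → (Q : Subgroup G) ≤ R
  sylow_inv : ∀ (G : Type u) [Group G] [Finite G] (K : Subgroup G) [K.Normal] (θ : IrrCharacter K)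
    (χ : IrrCharacter G), ¬ q ∣ charDegree (χ : G → ℂ) →
    ∑ᶠ k : K, (χ : G → ℂ) k * (starRingEnd ℂ) ((θ : K → ℂ) k) ≠ 0 →
    ∃ Q : Sylow q G, ∀ x ∈ Q, InvF (MulAut.conjNormal x : MulAut K) (θ : K → ℂ)
  ex_over : ∀ (G : Type u) [Group G] [Finite G] (K : Subgroup G) [K.Normal] (P : Sylow p G),
    (¬ p ∣ Nat.card K ∨ ⁅K, K⁆ = K) → ∀ (θ : IrrCharacter K), ¬ p ∣ charDegree (θ : K → ℂ) →
    (∀ x ∈ P, InvF (MulAut.conjNormal x : MulAut K) (θ : K → ℂ)) →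
    ∃ χ : IrrCharacter G, ¬ p ∣ charDegree (χ : G → ℂ) ∧
      ∑ᶠ k : K, (χ : G → ℂ) k * (starRingEnd ℂ) ((θ : K → ℂ) k) ≠ 0
  inv_over : ∀ (S : Type u) [Group S] [Finite S] (A : Subgroup (MulAut S)), IsPGroup p A → ∀ (H : Subgroup S),
    (∀ a ∈ A, H.map (a : MulAut S).toMonoidHom = H) → ¬ p ∣ H.index → ∀ (ψ : IrrCharacter H),
    ¬ p ∣ charDegree (ψ : H → ℂ) →
    (∀ a ∈ A, ∀ (g h : H), (h : S) = a g → (ψ : H → ℂ) h = (ψ : H → ℂ) g) →
    ∃ χ : IrrCharacter S, ¬ p ∣ charDegree (χ : S → ℂ) ∧ (∀ a ∈ A, InvF a (χ : S → ℂ)) ∧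
      ∑ᶠ h : H, (χ : S → ℂ) h * (starRingEnd ℂ) ((ψ : H → ℂ) h) ≠ 0
  gl_two : ∀ (K : Type u) [Group K] [Finite K], ¬ p ∣ Nat.card K → ¬ q ∣ Nat.card K →
    ∀ (P Q : Subgroup (MulAut K)), IsPGroup p P → IsPGroup q Q → (∀ a ∈ P, ∀ b ∈ Q, a * b * a⁻¹ ∈ Q) →
    (∀ χ : IrrCharacter K, (∀ a ∈ P, InvF a (χ : K → ℂ)) → ∀ b ∈ Q, InvF b (χ : K → ℂ)) → ∀ x : K,
    (∀ a ∈ P, a x = x) → ∀ b ∈ Q, b x = x
  lemma_N : ∀ (K : Type u) [Group K] [Finite K], ¬ q ∣ Nat.card K → ∀ (P Q : Subgroup (MulAut K)),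
    IsPGroup p P → IsPGroup q Q → (∀ a ∈ P, ∀ b ∈ Q, a * b * a⁻¹ ∈ Q) → ∀ (P₀ : Sylow p K),
    (P₀ : Subgroup K).map (MulAut.conj : K →* MulAut K) ≤ P →
    (∀ a ∈ P, (P₀ : Subgroup K).map (a : MulAut K).toMonoidHom = P₀) →
    (∀ b ∈ Q, ∀ x ∈ P₀, b x = x) → InvHyp p P Q → ∀ x : K,
    (∀ a ∈ P, x * (a x)⁻¹ ∈ (P₀ : Subgroup K)) → ∀ b ∈ Q, b x = x

variable {p q : ℕ} [hp : Fact p.Prime] [hq : Fact q.Prime] {G : Type u} [Group G] [Finite G]

/-! ### translations -/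

theorem over_iff_sum (K : Subgroup G) (χ : G → ℂ) (θ : K → ℂ) :
    Over K.subtype χ θ ↔ ∑ᶠ k : K, χ k * (starRingEnd ℂ) (θ k) ≠ 0 := by
  letI := Fintype.ofFinite K
  rw [over_iff, finsum_eq_sum_of_fintype]
  unfold classInner
  have h : (Nat.card K : ℂ)⁻¹ ≠ 0 := inv_ne_zero (Nat.cast_ne_zero.2 Nat.card_pos.ne')
  constructor
  · intro h1 h2
    apply h1
    have h3 : ∑ g : K, (χ ∘ K.subtype) g * conj (θ g) = 0 := h2
    rw [h3, mul_zero]
  · intro h1 h2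
    rcases mul_eq_zero.1 h2 with h3 | h3
    · exact h h3
    · exact h1 h3

theorem invF_iff (K : Subgroup G) [K.Normal] (θ : K → ℂ) (x : G) :
    InvF (MulAut.conjNormal x : MulAut K) θ ↔ x ∈ inertia K θ := by
  rw [mem_inertia, funext_iff]
  rfl

/-- the condition on the quotient -/
structure Red (p q : ℕ) (K P Q₁ : Subgroup G) : Prop where
  syl : ∃ Q : Sylow q G, Q₁ = (Q : Subgroup G) ⊔ K
  nor : normalizer ((P ⊔ K : Subgroup G) : Set G) ≤ normalizer (Q₁ : Set G)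
  der : ⁅Q₁, Q₁⁆ ⊓ centralizer (P : Set G) ≤ K

/-! ### quotients -/

theorem charDegree_comp {H : Type*} [Group H] (f : G →* H) (χ : H → ℂ) : charDegree (χ ∘ f) = charDegree χ := by
  unfold charDegree
  simp

theorem condA_quot (hA : CondA p q G) (K : Subgroup G) [K.Normal] : CondA p q (G ⧸ K) := by
  intro χ h
  have h1 : IsIrrCharacter G ((χ : G ⧸ K → ℂ) ∘ QuotientGroup.mk' K) :=
    isIrr_comp _ (QuotientGroup.mk'_surjective K) χ.2
  have h2 := hA ⟨_, h1⟩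
  simp only [charDegree_comp] at h2
  exact h2 h

theorem comap_map_mk (K H : Subgroup G) [K.Normal] :
    (H.map (QuotientGroup.mk' K)).comap (QuotientGroup.mk' K) = H ⊔ K := by
  rw [Subgroup.comap_map_eq, QuotientGroup.ker_mk']

theorem exists_red (K : Subgroup G) [K.Normal] (hB : CondB p q (G ⧸ K)) :
    ∃ (P : Sylow p G) (Q₁ : Subgroup G), Red p q K (P : Subgroup G) Q₁ := by
  obtain ⟨P', Q', h1, h2⟩ := hB
  have hs := QuotientGroup.mk'_surjective K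
  obtain ⟨P, rfl⟩ := Sylow.mapSurjective_surjective hs p P'
  obtain ⟨Q, rfl⟩ := Sylow.mapSurjective_surjective hs q Q'
  rw [Sylow.coe_mapSurjective, Sylow.coe_mapSurjective] at h1 h2
  refine ⟨P, (Q : Subgroup G) ⊔ K, ⟨Q, rfl⟩, ?_, ?_⟩
  · rw [← comap_map_mk K (P : Subgroup G), ← comap_map_mk K (Q : Subgroup G),
      ← Subgroup.comap_normalizer_eq_of_surjective _ hs, ← Subgroup.comap_normalizer_eq_of_surjective _ hs]
    exact Subgroup.comap_mono h1
  · intro x hx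
    have h3 : QuotientGroup.mk' K x ∈ ⁅(Q : Subgroup G).map (QuotientGroup.mk' K), (Q : Subgroup G).map (QuotientGroup.mk' K)⁆ ⊓
        centralizer (((P : Subgroup G).map (QuotientGroup.mk' K) : Subgroup (G ⧸ K)) : Set (G ⧸ K)) := by
      constructor
      · have h4 : QuotientGroup.mk' K x ∈ (⁅(Q : Subgroup G) ⊔ K, (Q : Subgroup G) ⊔ K⁆).map (QuotientGroup.mk' K) :=
          ⟨x, hx.1, rfl⟩
        have h5 : K.map (QuotientGroup.mk' K) = ⊥ := by
          rw [Subgroup.map_eq_bot_iff, QuotientGroup.ker_mk']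
        rw [Subgroup.map_commutator, Subgroup.map_sup, h5, sup_bot_eq] at h4
        exact h4
      · have h4 : x ∈ centralizer ((P : Subgroup G) : Set G) := hx.2
        show QuotientGroup.mk' K x ∈ centralizer _
        rw [mem_centralizer_iff] at h4 ⊢
        rintro _ ⟨y, hy, rfl⟩
        rw [← map_mul, ← map_mul, h4 y hy]
    rw [h2, mem_bot] at h3
    exact (QuotientGroup.eq_one_iff x).1 h3

/-! ### star -/

theorem star (hF : Facts.{u} p q) (hs : IsPSolvable q G) (hA : CondA p q G) (K : Subgroup G) [K.Normal]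
    (P : Sylow p G) (Q₁ : Subgroup G) (hR : Red p q K (P : Subgroup G) Q₁) (θ : K → ℂ) (hθ : IsIrrCharacter K θ)
    (hθP : (P : Subgroup G) ≤ inertia K θ) (χ : G → ℂ) (hχ : IsIrrCharacter G χ) (hd : ¬ p ∣ charDegree χ)
    (ho : Over K.subtype χ θ) : Q₁ ≤ inertia K θ := by
  have hqd := hA ⟨χ, hχ⟩ hd
  obtain ⟨Q', hQ'⟩ := hF.sylow_inv G K ⟨θ, hθ⟩ ⟨χ, hχ⟩ hqd ((over_iff_sum K χ θ).1 ho)
  have hs1 := QuotientGroup.mk'_surjective K
  obtain ⟨Q, rfl⟩ := hR.syl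
  have hK : K ≤ inertia K θ := le_inertia (isIrr_isClassFunction hθ)
  have h1 := hF.uniq (G ⧸ K) (PLocal.PSolvable.isPSolvable_quotient hs K) (P.mapSurjective hs1)
    (Q.mapSurjective hs1) (by
      have h2 := hR.nor
      rw [← comap_map_mk K (P : Subgroup G), ← comap_map_mk K (Q : Subgroup G),
        ← Subgroup.comap_normalizer_eq_of_surjective _ hs1, ← Subgroup.comap_normalizer_eq_of_surjective _ hs1] at h2
      rw [Sylow.coe_mapSurjective, Sylow.coe_mapSurjective]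
      exact (Subgroup.comap_le_comap_of_surjective hs1).1 h2) ((inertia K θ).map (QuotientGroup.mk' K)) (by
      rw [Sylow.coe_mapSurjective]
      exact Subgroup.map_mono hθP) (Q'.mapSurjective hs1) (by
      rw [Sylow.coe_mapSurjective]
      refine Subgroup.map_mono fun x hx => ?_
      exact (invF_iff K θ x).1 (hQ' x hx))
  rw [Sylow.coe_mapSurjective] at h1
  have h2 := Subgroup.comap_mono (f := QuotientGroup.mk' K) h1
  rw [comap_map_mk, comap_map_mk, sup_eq_left.2 hK] at h2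
  exact h2

/-- characters of degree prime to `p` which are `P`-invariant are `Q₁`-invariant -/
theorem key (hF : Facts.{u} p q) (hs : IsPSolvable q G) (hA : CondA p q G) (K : Subgroup G) [K.Normal]
    (P : Sylow p G) (Q₁ : Subgroup G) (hR : Red p q K (P : Subgroup G) Q₁) (hK : ¬ p ∣ Nat.card K ∨ ⁅K, K⁆ = K)
    (θ : K → ℂ) (hθ : IsIrrCharacter K θ) (hd : ¬ p ∣ charDegree θ) (hθP : (P : Subgroup G) ≤ inertia K θ) :
    Q₁ ≤ inertia K θ := by
  obtain ⟨χ, h1, h2⟩ := hF.ex_over G K P hK ⟨θ, hθ⟩ hd fun x hx => (invF_iff K θ x).2 (hθP hx)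
  exact star hF hs hA K P Q₁ hR θ hθ hθP χ χ.2 h1 ((over_iff_sum K χ θ).2 h2)

end Cfsg.Agent.H20.PQ
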