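import Cfsg.Agent.H20.PQ.Fwd
import Cfsg.Agent.H982.LemmaN

/-!
# S4981, (A) => (B): the final form (helper20)
-/

set_option autoImplicit false
set_option linter.style.longLine false

namespace Cfsg.Agent.H20.PQ

open Subgroup Cfsg Cfsg.Agent.H54.PQ

universe u

theorem lemmaN {p q : ℕ} [Fact p.Prime] [Fact q.Prime] (hpq : p ≠ q) : LemmaN.{u} p q :=
  fun _ _ _ hqK _ _ hP hQ hPQ P₀ h1 h2 h3 hinv _ hx =>
    H982.LN.lemma_N hpq hqK hP hQ hPQ P₀ h1 h2 h3 hinv hx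

/-- (A) => (B) -/
theorem fwd {p q : ℕ} [Fact p.Prime] [Fact q.Prime] (hpq : p ≠ q)
    (hS : ∀ (S : Type u) [Group S] [Finite S] [IsSimpleGroup S], ¬ IsMulCommutative S → SFact p q S) {G : Type u}
    [Group G] [Finite G] (hs : IsPSolvable q G) (hA : CondA p q G) : CondB p q G :=
  fwd_of hpq (lemmaN hpq) hS hs hA

end Cfsg.Agent.H20.PQ
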